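import Cfsg.Agent.PLocalBasics.Regular

/-!
In a regular `p`-group two elements have the same `p^k`-th power exactly when their quotient is killed by `p^k`.
-/

set_option autoImplicit false

namespace CfsgLib.RegularOmega

open CfsgLib.PLocalBasics
open scoped commutatorElement

variable {G : Type*} [Group G] [Finite G] {p : ℕ} [Fact p.Prime]

theorem powerClosure_eq_bot {D : Subgroup G} {k : ℕ} (h : ∀ z ∈ D, z ^ p ^ k = 1) {c : G}
    (hc : c ∈ Cfsg.powerClosure p k D) : c = 1 := by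
  have : Cfsg.powerClosure p k D ≤ ⊥ := by
    rw [Cfsg.powerClosure, Subgroup.closure_le]
    rintro _ ⟨x, hx, rfl⟩
    exact Subgroup.mem_bot.mpr (h x hx)
  exact Subgroup.mem_bot.mp (this hc)

/-- Equality of `p^k`-th powers in a regular `p`-group. -/
theorem pow_eq_iff (hR : Cfsg.IsRegularPGroup p G) (k : ℕ) :
    ∀ (n : ℕ) (a b : G), Nat.card ↥(pairGen a b) = n →
      (a ^ p ^ k = b ^ p ^ k ↔ (a⁻¹ * b) ^ p ^ k = 1) := by
  intro n
  induction n using Nat.strong_induction_on with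
  | _ n ih =>
  intro a b hn
  set H := pairGen a b with hH
  have haH : a ∈ H := left_mem_pairGen a b
  have hbH : b ∈ H := right_mem_pairGen a b
  by_cases hcomm : ∀ u ∈ H, ∀ v ∈ H, u * v = v * u
  · have hc : Commute a b := hcomm a haH b hbH
    rw [hc.inv_left.mul_pow, inv_pow, inv_mul_eq_one]
  have hlt : ∀ z ∈ H, ∀ u v : G, u ∈ Subgroup.zpowers z ⊔ ⁅H, H⁆ → v ∈ Subgroup.zpowers z ⊔ ⁅H, H⁆ →
      (u ^ p ^ k = v ^ p ^ k ↔ (u⁻¹ * v) ^ p ^ k = 1) := fun z hz u v hu hv =>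
    ih _ (hn ▸ lt_of_le_of_lt (Subgroup.card_le_of_le (pairGen_le hu hv))
      (card_sup_commutator_lt hR.1 hz hcomm)) u v rfl
  -- the elements of the derived subgroup killed by `p^k`
  let S : Subgroup G :=
    { carrier := {z | z ∈ ⁅H, H⁆ ∧ z ^ p ^ k = 1}
      one_mem' := ⟨one_mem _, one_pow _⟩
      mul_mem' := fun {u v} hu hv => ⟨mul_mem hu.1 hv.1, by
        have h := hlt a haH u⁻¹ v (Subgroup.mem_sup_right (inv_mem hu.1)) (Subgroup.mem_sup_right hv.1)
        rw [inv_inv] at h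
        exact h.mp (by rw [inv_pow, hu.2, inv_one, hv.2])⟩
      inv_mem' := fun {u} hu => ⟨inv_mem hu.1, by rw [inv_pow, hu.2, inv_one]⟩ }
  have hcj : ∀ g ∈ H, ∀ z ∈ ⁅H, H⁆, g * z * g⁻¹ ∈ ⁅H, H⁆ := by
    intro g hg z hz
    have h1 : (⁅H, H⁆).map (MulAut.conj g).toMonoidHom ≤ ⁅H, H⁆ := by
      rw [Subgroup.map_commutator]
      refine Subgroup.commutator_mono ?_ ?_ <;>
        (rintro _ ⟨w, hw, rfl⟩; exact mul_mem (mul_mem hg hw) (inv_mem hg))
    exact h1 ⟨z, hz, rfl⟩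
  have hS : ∀ g ∈ H, ∀ z ∈ S, g * z * g⁻¹ ∈ S := fun g hg z hz =>
    ⟨hcj g hg z hz.1, by rw [conj_pow, hz.2, mul_one, mul_inv_cancel]⟩
  -- it is all of the derived subgroup once it contains one commutator of generators
  have hall : ∀ u v : G, u ∈ H → v ∈ H → H ≤ pairGen u v → ⁅u, v⁆ ∈ S → ⁅H, H⁆ ≤ S := by
    intro u v hu hv hgen huv
    let S' := S.subgroupOf H
    have hSn : S'.Normal := ⟨fun x hx g => Subgroup.mem_subgroupOf.2 (hS g g.2 x (Subgroup.mem_subgroupOf.1 hx))⟩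
    let π := QuotientGroup.mk' S'
    have hc : Commute (π ⟨u, hu⟩) (π ⟨v, hv⟩) := by
      have h1 : π ⁅(⟨u, hu⟩ : H), (⟨v, hv⟩ : H)⁆ = 1 := (QuotientGroup.eq_one_iff _).2 (Subgroup.mem_subgroupOf.2 huv)
      rw [map_commutatorElement, commutatorElement_eq_one_iff_mul_comm] at h1
      exact h1
    have hgenH : pairGen (⟨u, hu⟩ : H) ⟨v, hv⟩ = ⊤ := by
      rw [eq_top_iff]
      intro x _
      have h1 : (x : G) ∈ (pairGen (⟨u, hu⟩ : H) ⟨v, hv⟩).map H.subtype := by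
        rw [MonoidHom.map_closure, Set.image_pair]
        exact hgen x.2
      obtain ⟨y, hy, hyx⟩ := h1
      rwa [← Subtype.ext hyx]
    have hcomm2 : ∀ x y : H, π x * π y = π y * π x := by
      have hle : (pairGen (⟨u, hu⟩ : H) ⟨v, hv⟩).map π ≤ Subgroup.closure {π ⟨u, hu⟩, π ⟨v, hv⟩} := by
        rw [MonoidHom.map_closure, Set.image_pair]
      have hK := Subgroup.isMulCommutative_closure (k := {π ⟨u, hu⟩, π ⟨v, hv⟩}) (by
        intro s hs t ht
        simp only [Set.mem_insert_iff, Set.mem_singleton_iff] at hs ht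
        rcases hs with rfl | rfl <;> rcases ht with rfl | rfl
        · rfl
        · exact hc.eq
        · exact hc.eq.symm
        · rfl)
      intro x y
      exact congrArg Subtype.val (hK.is_comm.comm
        ⟨π x, hle ⟨x, hgenH ▸ Subgroup.mem_top x, rfl⟩⟩ ⟨π y, hle ⟨y, hgenH ▸ Subgroup.mem_top y, rfl⟩⟩)
    rw [Subgroup.commutator_le]
    intro s hs t ht
    have h1 : π ⁅(⟨s, hs⟩ : H), (⟨t, ht⟩ : H)⁆ = 1 := by
      rw [map_commutatorElement, commutatorElement_eq_one_iff_mul_comm]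
      exact hcomm2 _ _
    exact Subgroup.mem_subgroupOf.1 ((QuotientGroup.eq_one_iff _).1 h1)
  set x := a⁻¹ * b with hx
  have hxH : x ∈ H := mul_mem (inv_mem haH) hbH
  constructor
  · intro hpow
    have hcb : ⁅b, a⁆ ∈ ⁅H, H⁆ := Subgroup.commutator_mem_commutator hbH haH
    have hmem : b * a * b⁻¹ ∈ Subgroup.zpowers a ⊔ ⁅H, H⁆ := by
      rw [show b * a * b⁻¹ = ⁅b, a⁆ * a by rw [commutatorElement_def]; group]
      exact mul_mem (Subgroup.mem_sup_right hcb) (Subgroup.mem_sup_left (Subgroup.mem_zpowers a))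
    have h1 : a ^ p ^ k = (b * a * b⁻¹) ^ p ^ k := by
      rw [conj_pow, hpow, ((Commute.refl b).pow_right _).eq, mul_inv_cancel_right]
    have h2 := (hlt a haH _ _ (Subgroup.mem_sup_left (Subgroup.mem_zpowers a)) hmem).mp h1
    have hgen : ⁅a⁻¹, b⁆ ∈ S := by
      rw [show ⁅a⁻¹, b⁆ = a⁻¹ * (b * a * b⁻¹) by rw [commutatorElement_def]; group]
      refine ⟨?_, h2⟩
      rw [show a⁻¹ * (b * a * b⁻¹) = ⁅a⁻¹, b⁆ by rw [commutatorElement_def]; group]
      exact Subgroup.commutator_mem_commutator (inv_mem haH) hbH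
    have hD := hall a⁻¹ b (inv_mem haH) hbH (pairGen_le (by
      simpa using inv_mem (left_mem_pairGen a⁻¹ b)) (right_mem_pairGen a⁻¹ b)) hgen
    obtain ⟨c, hc, he⟩ := hR.2 a⁻¹ b k
    have hle : pairGen a⁻¹ b ≤ H := pairGen_le (inv_mem haH) hbH
    have hc1 : c = 1 := powerClosure_eq_bot (D := ⁅pairGen a⁻¹ b, pairGen a⁻¹ b⁆)
      (fun z hz => (hD (Subgroup.commutator_mono hle hle hz)).2) hc
    rw [he, hc1, mul_one, inv_pow, hpow, inv_mul_cancel]
  · intro hxk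
    have hd : ⁅a, x⁆ ∈ ⁅H, H⁆ := Subgroup.commutator_mem_commutator haH hxH
    have hmem : a * x * a⁻¹ ∈ Subgroup.zpowers x ⊔ ⁅H, H⁆ := by
      rw [show a * x * a⁻¹ = ⁅a, x⁆ * x by rw [commutatorElement_def]; group]
      exact mul_mem (Subgroup.mem_sup_right hd) (Subgroup.mem_sup_left (Subgroup.mem_zpowers x))
    have h2 := hlt x hxH (a * x * a⁻¹)⁻¹ x⁻¹ (inv_mem hmem) (Subgroup.mem_sup_left (inv_mem (Subgroup.mem_zpowers x)))
    rw [inv_inv] at h2
    have h3 := h2.mp (by rw [inv_pow, inv_pow, conj_pow, hxk, mul_one, mul_inv_cancel])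
    have hgen : ⁅a, x⁆ ∈ S := ⟨hd, by rw [commutatorElement_def]; exact h3⟩
    have hD := hall a x haH hxH (pairGen_le (left_mem_pairGen a x) (by
      have := mul_mem (left_mem_pairGen a x) (right_mem_pairGen a x)
      rwa [hx, mul_inv_cancel_left] at this)) hgen
    obtain ⟨c, hc, he⟩ := hR.2 a x k
    have hc1 : c = 1 := by
      refine powerClosure_eq_bot (D := ⁅pairGen a x, pairGen a x⁆) (fun z hz => ?_) hc
      exact (hD (Subgroup.commutator_mono (pairGen_le haH hxH) (pairGen_le haH hxH) hz)).2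
    rw [hc1, mul_one, hxk, mul_one, hx, mul_inv_cancel_left] at he
    exact he.symm

theorem pow_eq (hR : Cfsg.IsRegularPGroup p G) (k : ℕ) (a b : G) :
    a ^ p ^ k = b ^ p ^ k ↔ (a⁻¹ * b) ^ p ^ k = 1 := pow_eq_iff hR k _ a b rfl

end CfsgLib.RegularOmega
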